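/-
The orthogonal group of the sum of two squares: order, reflections, Sylow 2-subgroups.
-/
import Cfsg.Agent.Lib.Orthogonal.Counts
import Cfsg.Agent.Lib.Orthogonal.SumSquares
import Cfsg.Agent.Lib.Orthogonal.OmegaIndex
import Cfsg.Agent.Lib.Blocks.SylowTwoClassical

set_option autoImplicit false

namespace Cfsg.Agent.OrthSylOdd

open QuadraticMap Module
open Cfsg.Agent.Orth

variable {F : Type*} [Field F] [Fintype F]

omit [Fintype F] in
theorem two_ne_of_odd [Finite F] (h : Odd (Nat.card F)) : (2 : F) ≠ 0 := fun h2 => by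
  haveI := Fintype.ofFinite F
  rw [Nat.card_eq_fintype_card] at h
  exact (Nat.not_even_iff_odd.2 h) (Nat.even_iff.2 (FiniteField.even_card_of_char_two
    ((ringChar.eq_iff).2 (CharTwo.of_one_ne_zero_of_two_eq_zero one_ne_zero h2))))

/-- The 2-part of q^2 - 1. -/
noncomputable def cVal (F : Type*) : ℕ := padicValNat 2 (Nat.card F ^ 2 - 1)

theorem val_sign_pow {q : ℕ} (hq1 : 1 < q) (hq : Odd q) {m : ℕ} (hm : 1 ≤ m) :
    (q ^ m % 4 = 1 → padicValNat 2 (q ^ m + 1) = 1 ∧
      padicValNat 2 (q ^ m - 1) + 1 = padicValNat 2 (q ^ 2 - 1) + padicValNat 2 m) ∧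
    (q ^ m % 4 = 3 → padicValNat 2 (q ^ m - 1) = 1 ∧
      padicValNat 2 (q ^ m + 1) + 1 = padicValNat 2 (q ^ 2 - 1) + padicValNat 2 m) := by
  obtain ⟨j, rfl⟩ : ∃ j, m = j + 1 := ⟨m - 1, by omega⟩
  have h1 := SylTwoClassical.val_even_pow hq1 hq j
  have hx : 1 < q ^ (j + 1) := Nat.one_lt_pow (by omega) hq1
  obtain ⟨x, hxdef⟩ : ∃ x, x = q ^ (j + 1) := ⟨_, rfl⟩
  rw [← hxdef] at hx ⊢
  have e : q ^ (2 * (j + 1)) - 1 = (x - 1) * (x + 1) := by
    rw [Orth.sub_one_mul_add_one, hxdef, ← pow_add, two_mul]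
  rw [e, padicValNat.mul (by omega) (by omega)] at h1
  have key : ∀ y, y % 4 = 2 → padicValNat 2 y = 1 := by
    intro y hy
    obtain ⟨z, rfl⟩ : ∃ z, y = 2 * z := ⟨y / 2, by omega⟩
    rw [padicValNat.mul (by norm_num) (by omega), padicValNat.self (by norm_num),
      padicValNat.eq_zero_of_not_dvd (by omega)]
  constructor
  · intro h
    have := key (x + 1) (by omega)
    exact ⟨this, by omega⟩
  · intro h
    have := key (x - 1) (by omega)
    exact ⟨this, by omega⟩

theorem pow_mod_four {q : ℕ} (hq : Odd q) (m : ℕ) : q ^ m % 4 = 1 ∨ q ^ m % 4 = 3 := by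
  have := (hq.pow (n := m))
  rw [Nat.odd_iff] at this
  omega

/-- The sum of two squares. -/
noncomputable abbrev q2 (F : Type*) [Field F] : QuadraticForm F (Fin 2 → F) := qSum F (Fin 2)

omit [Fintype F] in
theorem q2_apply (v : Fin 2 → F) : q2 F v = v 0 ^ 2 + v 1 ^ 2 := by
  rw [q2, qSum_apply, Fin.sum_univ_two]

omit [Fintype F] in
theorem polar_q2 (v w : Fin 2 → F) : polar (q2 F) v w = 2 * (v 0 * w 0 + v 1 * w 1) := by
  simp only [polar, q2_apply, Pi.add_apply]
  ring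

instance finite_linearEquiv {V : Type*} [AddCommGroup V] [Module F V] [Finite V] : Finite (V ≃ₗ[F] V) :=
  Finite.of_injective (fun g => (g : V → V)) DFunLike.coe_injective

theorem q2_nondeg (hF : Odd (Nat.card F)) : (polarBilin (q2 F)).Nondegenerate :=
  (qSum_nondeg (two_ne_of_odd hF)).1

theorem val_card_o2 (hF : Odd (Nat.card F)) :
    padicValNat 2 (Nat.card (oGroup (q2 F))) = cVal F := by
  have h2 := two_ne_of_odd hF
  have hq1 : 1 < Nat.card F := Finite.one_lt_card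
  obtain ⟨hA, hB⟩ := val_sign_pow hq1 hF (m := 1) le_rfl
  simp only [pow_one, padicValNat.one, add_zero] at hA hB
  rcases pow_mod_four hF 1 with h | h <;> rw [pow_one] at h
  · obtain ⟨i, hi⟩ : IsSquare (-1 : F) := by
      rw [FiniteField.isSquare_neg_one_iff, ← Nat.card_eq_fintype_card]; omega
    have hi0 : i ≠ 0 := fun h0 => by rw [h0] at hi; simp at hi
    let L : (Fin 2 → F) ≃ₗ[F] (Fin 1 ⊕ Fin 1 → F) :=
      { toFun := fun v => Sum.elim (fun _ => v 0 + i * v 1) (fun _ => v 0 - i * v 1)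
        invFun := fun w => ![(w (.inl 0) + w (.inr 0)) / 2, (w (.inl 0) - w (.inr 0)) / (2 * i)]
        map_add' := fun v w => by ext (j | j) <;> simp <;> ring
        map_smul' := fun c v => by ext (j | j) <;> simp <;> ring
        left_inv := fun v => by ext j; fin_cases j <;> simp <;> field_simp <;> ring
        right_inv := fun w => by
          ext (j | j) <;> rw [Fin.eq_zero j] <;> simp <;> field_simp <;> ring }
    have hL : ∀ v, qPlus F 1 (L v) = q2 F v := fun v => by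
      rw [congrFun (coe_qPlus (F := F) 1) (L v), q2_apply, Cfsg.quadFormPlus, Fin.sum_univ_one]
      show (v 0 + i * v 1) * (v 0 - i * v 1) = _
      linear_combination (v 1 ^ 2) * hi
    have hc := card_oGroup_qPlus (F := F) 0
    rw [Nat.card_congr (oCongr L hL).toEquiv]
    simp only [zero_add, Finset.range_zero, Finset.prod_empty, mul_one, one_mul, pow_zero, pow_one, mul_zero] at hc
    rw [hc, padicValNat.mul (by norm_num) (by omega), padicValNat.self (by norm_num), cVal]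
    have := hA h; omega
  · have hns : ¬ IsSquare (-1 : F) := by
      rw [FiniteField.isSquare_neg_one_iff, ← Nat.card_eq_fintype_card]; omega
    have hab : ∀ z₁ z₂ : F, z₁ ^ 2 + 0 * z₁ * z₂ + 1 * z₂ ^ 2 = 0 → z₁ = 0 ∧ z₂ = 0 := by
      intro x y hxy
      by_cases hy : y = 0
      · subst hy
        exact ⟨by simpa using hxy, rfl⟩
      · exact absurd ⟨x / y, by field_simp; linear_combination -hxy⟩ hns
    have e : q2 F = qBin F 0 1 := QuadraticMap.ext fun v => by rw [q2_apply, qBin_apply]; ring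
    rw [e, card_oGroup_bin hab, padicValNat.mul (by norm_num) (by omega), padicValNat.self (by norm_num), cVal]
    have := hB h; omega

/-- An element of odd parity is a reflection. -/
theorem exists_refl_of_odd (h2 : (2 : F) ≠ 0) (χ : oGroup (q2 F) →* SpinVal F)
    (hχ : ∀ (r : oGroup (q2 F)) (v : Fin 2 → F), IsRefl r.1 (q2 F) v → χ r = reflVal (q2 F) v)
    (hQ : (polarBilin (q2 F)).Nondegenerate)
    (g : oGroup (q2 F)) (hg : (χ g).1 ≠ 1) : ∃ v, IsRefl g.1 (q2 F) v := by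
  obtain ⟨e, he⟩ : ∃ e : Fin 2 → F, e = ![1, 0] := ⟨_, rfl⟩
  obtain ⟨w, hw⟩ : ∃ w : Fin 2 → F, w = ![0, 1] := ⟨_, rfl⟩
  have hqe : q2 F e = 1 := by subst he; simp [q2_apply]
  have hqw : q2 F w = 1 := by subst hw; simp [q2_apply]
  have hew : polar (q2 F) e w = 0 := by subst he hw; simp [polar_q2]
  have hfix : ∀ g' : oGroup (q2 F), g'.1 e = e → g' = 1 ∨ IsRefl g'.1 (q2 F) w := by
    intro g' hge
    refine (fix_plane hQ h2 (by rw [hqe]; exact one_ne_zero) (by rw [hqw]; exact one_ne_zero) hew g'.2 hge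
      fun x hxe hxw => ?_).imp (fun h => Subtype.ext h) id
    have hx : x = 0 := by
      rw [polar_q2] at hxe hxw
      subst he hw
      ext j; fin_cases j
      · simpa [h2] using hxe
      · simpa [h2] using hxw
    rw [hx, map_zero]
  have odd_ne : (Multiplicative.ofAdd (1 : ZMod 2)) * Multiplicative.ofAdd 1 = 1 := by decide
  by_cases hge : g.1 e = e
  · rcases hfix g hge with h | h
    · rw [h, map_one] at hg; exact absurd rfl hg
    · exact ⟨w, h⟩
  have hne : q2 F (g.1 e - e) ≠ 0 := by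
    intro h0
    have h1 : q2 F (g.1 e) = 1 := (g.2 e).trans hqe
    subst he
    rw [q2_apply] at h0 h1
    simp only [Pi.sub_apply, Matrix.cons_val_zero, Matrix.cons_val_one] at h0
    have hx : g.1 ![1, 0] 0 = 1 := mul_left_cancel₀ h2 (by linear_combination h1 - h0)
    rw [hx] at h1
    have hy : g.1 ![1, 0] 1 = 0 := pow_eq_zero_iff (n := 2) two_ne_zero |>.1 (by linear_combination h1)
    exact hge (funext fun j => by fin_cases j <;> simp [hx, hy])
  obtain ⟨r, hr, hr'⟩ := exists_isRefl (Q := q2 F) hne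
  obtain ⟨rG, hrG⟩ : ∃ rG : oGroup (q2 F), rG = ⟨r, hr⟩ := ⟨_, rfl⟩
  have hr2 : rG * rG = 1 := by subst hrG; exact Subtype.ext hr'.mul_self
  have hmove : (rG * g).1 e = e := by
    subst hrG
    have h := hr'.move (u := e) (w := g.1 e) (g.2 e).symm
    show r (g.1 e) = e
    rw [← h]
    exact (LinearEquiv.congr_fun hr'.mul_self e)
  have hrefl : IsRefl rG.1 (q2 F) (g.1 e - e) := by subst hrG; exact hr'
  rcases hfix _ hmove with h | h
  · refine ⟨g.1 e - e, ?_⟩
    have : g = rG := by rw [← one_mul g, ← hr2, mul_assoc, h, mul_one]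
    rw [this] at hrefl ⊢
    exact hrefl
  · exfalso
    have h1 := hχ _ _ h
    rw [map_mul, hχ _ _ hrefl] at h1
    have h3 : Multiplicative.ofAdd (1 : ZMod 2) * (χ g).1 = Multiplicative.ofAdd 1 :=
      congrArg Prod.fst h1
    exact hg (mul_eq_left.1 h3)

/-- A good Sylow subgroup of the plane group. -/
theorem exists_plane_sylow (hF : Odd (Nat.card F)) :
    ∃ (W : Subgroup (oGroup (q2 F))) (χ : oGroup (q2 F) →* SpinVal F),
      Nat.card W = 2 ^ cVal F ∧
      (∀ (r : oGroup (q2 F)) (v : Fin 2 → F), IsRefl r.1 (q2 F) v → χ r = reflVal (q2 F) v) ∧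
      (∀ c : SqCls F, ∃ w ∈ W, χ w = (Multiplicative.ofAdd 1, c)) ∧
      (∀ w ∈ W, (χ w).1 ≠ 1 → w * w = 1 ∧ ∃ v, IsRefl w.1 (q2 F) v) ∧
      (∀ w ∈ W, (χ w).1 = 1 → ∀ u ∈ W, (χ u).1 ≠ 1 → (χ (u * w)).1 ≠ 1) := by
  haveI := Fact.mk Nat.prime_two
  have h2 := two_ne_of_odd hF
  have hQ := q2_nondeg hF
  have hd : finrank F (Fin 2 → F) = 2 := Module.finrank_fin_fun F
  have h : Fintype.card F ≠ 2 ∨ finrank F (Fin 2 → F) ≠ 4 := Or.inr (by omega)
  obtain ⟨χ, hχ⟩ := exists_spinor hQ h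
  obtain ⟨-, hsurj⟩ := spinor_spec hQ (by omega) h χ hχ
  haveI : Finite (oGroup (q2 F)) := Subtype.finite
  obtain ⟨W⟩ : Nonempty (Sylow 2 (oGroup (q2 F))) := inferInstance
  have htop : (W : Subgroup _).map χ = ⊤ := by
    have h4 : IsPGroup 2 (SpinVal F) := IsPGroup.of_card (n := 2) ((card_spinVal).1 h2)
    exact (W.mapSurjective hsurj).is_maximal' (h4.to_subgroup ⊤) le_top |>.symm
  refine ⟨W, χ, ?_, hχ, fun c => ?_, fun w hw hodd => ?_, fun w _ hw1 u _ hu => ?_⟩
  · rw [SylTwoClassical.card_sylow, val_card_o2 hF]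
  · have hm : (Multiplicative.ofAdd (1 : ZMod 2), c) ∈ (W : Subgroup _).map χ :=
      htop ▸ Subgroup.mem_top _
    obtain ⟨w, hw, he⟩ := Subgroup.mem_map.1 hm
    exact ⟨w, hw, he⟩
  · obtain ⟨v, hv⟩ := exists_refl_of_odd h2 χ hχ hQ w hodd
    exact ⟨Subtype.ext hv.mul_self, v, hv⟩
  · rw [map_mul, Prod.fst_mul, hw1, mul_one]; exact hu

end Cfsg.Agent.OrthSylOdd
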