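/-
Kernels of a class invariant on a group spanned by commuting-rich involutions.
-/
import Cfsg.Agent.Lib.Blocks.SylowTwoWreath

set_option autoImplicit false

namespace Cfsg.Agent.OrthSylOdd

open Cfsg.Agent.SylTwoWreath (SqComm sqKer mem_sqKer sqComm_map)

theorem sqComm_of_atoms {G Z H : Type*} [Group G] [CommGroup Z] [Group H] (χ : G →* Z) (R : Subgroup G)
    (Atom : Set G) (hR : ∀ a ∈ Atom, a ∈ R) (h2 : ∀ a ∈ Atom, a * a = 1)
    (hswap : ∀ a ∈ Atom, ∀ b ∈ Atom, χ a = χ b → a * b ≠ b * a →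
      ∃ c ∈ Atom, a * c = c * a ∧ c * b = b * c ∧ χ c = χ a)
    (a₀ b₀ : G) (ha₀ : a₀ ∈ Atom) (hb₀ : b₀ ∈ Atom) (hab₀ : a₀ * b₀ = b₀ * a₀)
    (hcover : ∀ a ∈ Atom, χ a = χ a₀ ∨ χ a = χ b₀)
    (hne : χ a₀ ≠ 1 ∧ χ b₀ ≠ 1 ∧ χ (b₀ * a₀) ≠ 1)
    (f : H →* G) (hH : SqComm H) (hfR : ∀ t, f t ∈ R) (hfχ : ∀ t, χ (f t) = 1)
    (hgen : ∀ x ∈ R, χ x = 1 → ∃ y ∈ Subgroup.closure Atom, ∃ t, x = y * f t) :
    SqComm (R ⊓ χ.ker : Subgroup G) := by
  let P : Subgroup G := R ⊓ χ.ker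
  let K : Subgroup G := (sqKer P).map P.subtype
  have hK : ∀ {x} (hx : x ∈ P), (⟨x, hx⟩ : P) ^ 2 ∈ commutator P → x ∈ K :=
    fun {x} hx h => ⟨⟨x, hx⟩, mem_sqKer.2 h, rfl⟩
  have hconj : ∀ g ∈ R, ∀ x ∈ K, g * x * g⁻¹ ∈ K := by
    rintro g hg _ ⟨x, hx, rfl⟩
    have hm : ∀ y : P, g * (y : G) * g⁻¹ ∈ P := fun y =>
      ⟨R.mul_mem (R.mul_mem hg y.2.1) (R.inv_mem hg), (MonoidHom.normal_ker χ).conj_mem _ y.2.2 g⟩
    exact hK (hm x) (sqComm_map (((MulAut.conj g).toMonoidHom.comp P.subtype).codRestrict P hm) (mem_sqKer.1 hx))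
  have hmul : ∀ a ∈ Atom, ∀ b ∈ Atom, a * b = b * a → χ a = χ b → a * b ∈ K := by
    intro a ha b hb hab he
    have hm : a * b ∈ P := ⟨R.mul_mem (hR a ha) (hR b hb), by
      show χ (a * b) = 1
      rw [map_mul, he, ← map_mul, h2 b hb, map_one]⟩
    refine hK hm ?_
    have : (⟨a * b, hm⟩ : P) ^ 2 = 1 := Subtype.ext (by
      show (a * b) ^ 2 = 1
      rw [sq, mul_assoc, ← mul_assoc b, ← hab, mul_assoc a b b, h2 b hb, mul_one, h2 a ha])
    rw [this]; exact one_mem _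
  have hpair : ∀ a ∈ Atom, ∀ b ∈ Atom, χ a = χ b → a * b ∈ K := by
    intro a ha b hb he
    by_cases hab : a * b = b * a
    · exact hmul a ha b hb hab he
    obtain ⟨c, hc, h1, h3, h4⟩ := hswap a ha b hb he hab
    have e := K.mul_mem (hmul a ha c hc h1 h4.symm) (hmul c hc b hb h3 (h4.trans he))
    rwa [mul_assoc, ← mul_assoc c c, h2 c hc, one_mul] at e
  have hia : a₀⁻¹ = a₀ := inv_eq_of_mul_eq_one_right (h2 _ ha₀)
  have hib : b₀⁻¹ = b₀ := inv_eq_of_mul_eq_one_right (h2 _ hb₀)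
  have step : ∀ c ∈ Atom, ∀ y, (y ∈ K ∨ a₀ * y ∈ K ∨ b₀ * y ∈ K ∨ b₀ * a₀ * y ∈ K) →
      (c * y ∈ K ∨ a₀ * (c * y) ∈ K ∨ b₀ * (c * y) ∈ K ∨ b₀ * a₀ * (c * y) ∈ K) := by
    intro c hc y hy
    have ca : χ c = χ a₀ → c * a₀ ∈ K ∧ a₀ * c ∈ K := fun h => ⟨hpair c hc _ ha₀ h, hpair _ ha₀ c hc h.symm⟩
    have cb : χ c = χ b₀ → c * b₀ ∈ K ∧ b₀ * c ∈ K := fun h => ⟨hpair c hc _ hb₀ h, hpair _ hb₀ c hc h.symm⟩
    have caj : ∀ x ∈ K, a₀ * x * a₀ ∈ K := fun x hx => by have := hconj _ (hR _ ha₀) x hx; rwa [hia] at this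
    have cbj : ∀ x ∈ K, b₀ * x * b₀ ∈ K := fun x hx => by have := hconj _ (hR _ hb₀) x hx; rwa [hib] at this
    have a2 : ∀ z, a₀ * (a₀ * z) = z := fun z => by rw [← mul_assoc, h2 _ ha₀, one_mul]
    have b2 : ∀ z, b₀ * (b₀ * z) = z := fun z => by rw [← mul_assoc, h2 _ hb₀, one_mul]
    rcases hcover c hc with h | h <;> rcases hy with hy | hy | hy | hy
    · refine Or.inr (Or.inl ?_)
      rw [← mul_assoc]; exact K.mul_mem (ca h).2 hy
    · refine Or.inl ?_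
      have := K.mul_mem (ca h).1 hy
      rwa [mul_assoc, a2] at this
    · refine Or.inr (Or.inr (Or.inr ?_))
      have := K.mul_mem (cbj _ (ca h).2) hy
      simp only [mul_assoc, b2] at this ⊢
      exact this
    · refine Or.inr (Or.inr (Or.inl ?_))
      have := K.mul_mem (cbj _ (ca h).1) hy
      simp only [mul_assoc, b2, a2] at this ⊢
      exact this
    · refine Or.inr (Or.inr (Or.inl ?_))
      rw [← mul_assoc]; exact K.mul_mem (cb h).2 hy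
    · refine Or.inr (Or.inr (Or.inr ?_))
      have := K.mul_mem (caj _ (cb h).2) hy
      rw [← hab₀]
      simp only [mul_assoc, a2] at this ⊢
      exact this
    · refine Or.inl ?_
      have := K.mul_mem (cb h).1 hy
      rwa [mul_assoc, b2] at this
    · refine Or.inr (Or.inl ?_)
      rw [← hab₀] at hy
      have := K.mul_mem (caj _ (cb h).1) hy
      simp only [mul_assoc, a2, b2] at this ⊢
      exact this
  have hspan : ∀ y ∈ Subgroup.closure Atom,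
      y ∈ K ∨ a₀ * y ∈ K ∨ b₀ * y ∈ K ∨ b₀ * a₀ * y ∈ K := by
    intro y hy
    induction hy using Subgroup.closure_induction_left with
    | one => exact Or.inl K.one_mem
    | mul_left c hc y _ ih => exact step c hc y ih
    | inv_mul_cancel c hc y _ ih =>
      rw [inv_eq_of_mul_eq_one_right (h2 c hc)]
      exact step c hc y ih
  intro x
  rw [← mem_sqKer]
  suffices (x : G) ∈ K by
    obtain ⟨x', hx', e'⟩ := this
    rwa [← P.subtype_injective e']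
  obtain ⟨y, hy, t, hx⟩ := hgen x x.2.1 x.2.2
  have hy1 : χ y = 1 := by
    have h : χ (x : G) = 1 := x.2.2
    rwa [hx, map_mul, hfχ, mul_one] at h
  have htP : ∀ s, f s ∈ P := fun s => ⟨hfR s, hfχ s⟩
  rw [hx]
  refine K.mul_mem ?_ (hK (htP t) (sqComm_map (f.codRestrict P htP) (hH t)))
  have hKker : ∀ z ∈ K, χ z = 1 := fun z hz => by
    obtain ⟨z', -, rfl⟩ := hz
    exact z'.2.2
  rcases hspan y hy with h | h | h | h
  · exact h
  all_goals exfalso; have h' := hKker _ h; rw [map_mul, hy1, mul_one] at h'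
  · exact hne.1 h'
  · exact hne.2.1 h'
  · exact hne.2.2 h'

end Cfsg.Agent.OrthSylOdd
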