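/-
A Sylow 2-subgroup of the commutator subgroup of an orthogonal group, odd characteristic.
-/
import Cfsg.Agent.Lib.Orthogonal.SylowOdd.Plane
import Cfsg.Agent.Lib.Orthogonal.SylowOdd.Atoms
import Mathlib.LinearAlgebra.QuadraticForm.Prod

set_option autoImplicit false

namespace Cfsg.Agent.OrthSylOdd

open QuadraticMap Module
open Cfsg.Agent.Orth
open Cfsg.Agent.SylTwoWreath (SqComm sqKer mem_sqKer sqComm_map)

variable {F : Type*} [Field F] {k r : ℕ}

/-- k planes and r lines. -/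
abbrev Sp (F : Type*) (k r : ℕ) : Type _ := (Fin k → Fin 2 → F) × (Fin r → F)

/-- The model form. -/
noncomputable abbrev qModel (k : ℕ) (d : Fin r → F) : QuadraticForm F (Sp F k r) :=
  QuadraticMap.prod (QuadraticMap.pi fun _ : Fin k => q2 F) (QuadraticMap.weightedSumSquares F d)

theorem qModel_apply (d : Fin r → F) (x : Sp F k r) :
    qModel k d x = (∑ i, q2 F (x.1 i)) + ∑ j, d j * (x.2 j * x.2 j) := by
  simp [QuadraticMap.prod, QuadraticMap.pi_apply, QuadraticMap.weightedSumSquares_apply]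

theorem polar_qModel (d : Fin r → F) (x y : Sp F k r) :
    polar (qModel k d) x y = (∑ i, polar (q2 F) (x.1 i) (y.1 i)) + 2 * ∑ j, d j * (x.2 j * y.2 j) := by
  simp only [polar, qModel_apply, Prod.fst_add, Prod.snd_add, Pi.add_apply, Finset.sum_sub_distrib,
    Finset.mul_sum]
  have : ∀ j, d j * ((x.2 j + y.2 j) * (x.2 j + y.2 j)) =
      d j * (x.2 j * x.2 j) + d j * (y.2 j * y.2 j) + 2 * (d j * (x.2 j * y.2 j)) := fun j => by ring
  simp only [this, Finset.sum_add_distrib]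
  ring

theorem qModel_nondeg (h2 : (2 : F) ≠ 0) (d : Fin r → F) (hd : ∀ j, d j ≠ 0) :
    (polarBilin (qModel k d)).Nondegenerate := by
  refine nondeg_of fun x hx => Prod.ext (funext fun i => funext fun c => ?_) (funext fun j => ?_)
  · have h := hx (Pi.single i (Pi.single c 1), 0)
    rw [polar_qModel, Finset.sum_eq_single i (fun i' _ hi' => by simp [polar_q2, Pi.single_eq_of_ne hi'])
      (by simp)] at h
    fin_cases c <;> simpa [polar_q2, h2] using h
  · have h := hx (0, Pi.single j 1)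
    rw [polar_qModel, Finset.sum_eq_single j (fun j' _ hj' => by simp [Pi.single_eq_of_ne hj'])
      (by simp)] at h
    simpa [polar_q2, h2, hd j] using h

variable (d : Fin r → F)

/-- Planewise action. -/
noncomputable def blk : (Fin k → oGroup (q2 F)) →* oGroup (qModel k d) :=
  MonoidHom.mk' (fun g => ⟨(LinearEquiv.piCongrRight fun i => (g i).1).prodCongr (LinearEquiv.refl F _),
    fun x => by
      rw [qModel_apply, qModel_apply]
      refine congrArg₂ (· + ·) (Finset.sum_congr rfl fun i _ => ?_) rfl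
      exact (g i).2 (x.1 i)⟩)
    fun g h => Subtype.ext (LinearEquiv.ext fun x => Prod.ext rfl rfl)

/-- Permutation of the planes. -/
noncomputable def prm : Equiv.Perm (Fin k) →* oGroup (qModel k d) :=
  MonoidHom.mk' (fun σ => ⟨(LinearEquiv.funCongrLeft F (Fin 2 → F) σ.symm).prodCongr (LinearEquiv.refl F _),
    fun x => by
      rw [qModel_apply, qModel_apply]
      refine congrArg₂ (· + ·) ?_ rfl
      exact Equiv.sum_comp σ.symm fun i => q2 F (x.1 i)⟩)
    fun σ τ => Subtype.ext (LinearEquiv.ext fun x => Prod.ext rfl rfl)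

/-- A sign as a scalar. -/
def sgn' (F : Type*) [Field F] : ℤˣ →* Fˣ := Units.map (Int.castRingHom F : ℤ →+* F).toMonoidHom

theorem sgn'_sq (z : ℤˣ) : (sgn' F z : F) * sgn' F z = 1 := by
  rw [← Units.val_mul, ← map_mul, Int.units_mul_self, map_one, Units.val_one]

/-- Signs on the lines. -/
noncomputable def sg : (Fin r → ℤˣ) →* oGroup (qModel k d) :=
  MonoidHom.mk' (fun z => ⟨(LinearEquiv.refl F _).prodCongr
      (LinearEquiv.piCongrRight fun j => LinearEquiv.smulOfUnit (R := F) (M := F) (sgn' F (z j))),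
    fun x => by
      rw [qModel_apply, qModel_apply]
      refine congrArg₂ (· + ·) rfl (Finset.sum_congr rfl fun j _ => ?_)
      show d j * ((sgn' F (z j) : F) * x.2 j * ((sgn' F (z j) : F) * x.2 j)) = _
      linear_combination (d j * (x.2 j * x.2 j)) * sgn'_sq (F := F) (z j)⟩)
    fun z z' => Subtype.ext (LinearEquiv.ext fun x => Prod.ext rfl (funext fun j => by
      show (sgn' F ((z * z') j) : F) * x.2 j = (sgn' F (z j) : F) * ((sgn' F (z' j) : F) * x.2 j)
      rw [Pi.mul_apply, map_mul, Units.val_mul, mul_assoc]))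

theorem blk_apply (g : Fin k → oGroup (q2 F)) (x : Sp F k r) :
    (blk d g).1 x = (fun i => (g i).1 (x.1 i), x.2) := rfl

theorem prm_apply (σ : Equiv.Perm (Fin k)) (x : Sp F k r) :
    (prm d σ).1 x = (x.1 ∘ σ.symm, x.2) := rfl

theorem sg_apply (z : Fin r → ℤˣ) (x : Sp F k r) :
    (sg d z).1 x = (x.1, fun j => (sgn' F (z j) : F) * x.2 j) := rfl

theorem prm_blk (σ : Equiv.Perm (Fin k)) (v : Fin k → oGroup (q2 F)) :
    prm d σ * blk d v = blk d (v ∘ σ.symm) * prm d σ :=
  Subtype.ext (LinearEquiv.ext fun _ => Prod.ext rfl rfl)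

theorem sg_comm_blk (z : Fin r → ℤˣ) (v : Fin k → oGroup (q2 F)) : sg d z * blk d v = blk d v * sg d z :=
  Subtype.ext (LinearEquiv.ext fun _ => Prod.ext rfl rfl)

theorem sg_comm_prm (z : Fin r → ℤˣ) (σ : Equiv.Perm (Fin k)) : sg (k := k) d z * prm d σ = prm d σ * sg d z :=
  Subtype.ext (LinearEquiv.ext fun _ => Prod.ext rfl rfl)

/-- The wreath product with signs. -/
def bigSub (W : Subgroup (oGroup (q2 F))) (T : Subgroup (Equiv.Perm (Fin k))) : Subgroup (oGroup (qModel k d)) where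
  carrier := {g | ∃ v σ z, (∀ i, v i ∈ W) ∧ σ ∈ T ∧ g = blk d v * sg d z * prm d σ}
  one_mem' := ⟨1, 1, 1, fun _ => one_mem _, one_mem _, by simp⟩
  mul_mem' := by
    rintro _ _ ⟨v, σ, z, hv, hσ, rfl⟩ ⟨w, τ, y, hw, hτ, rfl⟩
    refine ⟨v * (w ∘ σ.symm), σ * τ, z * y, fun i => mul_mem (hv i) (hw _), mul_mem hσ hτ, ?_⟩
    rw [map_mul, map_mul, map_mul]
    simp only [mul_assoc]
    rw [← mul_assoc (prm d σ), prm_blk]
    simp only [mul_assoc]
    rw [← mul_assoc (prm d σ) (sg d y), ← sg_comm_prm]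
    simp only [mul_assoc]
    rw [← mul_assoc (sg d z) (blk d _), sg_comm_blk]
    simp only [mul_assoc]
  inv_mem' := by
    rintro _ ⟨v, σ, z, hv, hσ, rfl⟩
    refine ⟨v⁻¹ ∘ σ, σ⁻¹, z⁻¹, fun i => inv_mem (hv _), inv_mem hσ, ?_⟩
    rw [mul_inv_rev, mul_inv_rev, ← map_inv, ← map_inv, ← map_inv, ← mul_assoc, ← sg_comm_prm, mul_assoc,
      prm_blk, ← mul_assoc, sg_comm_blk]
    rfl

variable [Fintype F]

theorem card_bigSub (h2 : (2 : F) ≠ 0) (W : Subgroup (oGroup (q2 F))) (T : Subgroup (Equiv.Perm (Fin k))) :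
    Nat.card (bigSub d W T) = Nat.card W ^ k * 2 ^ r * Nat.card T := by
  let f : ((Fin k → W) × (Fin r → ℤˣ)) × T → bigSub d W T := fun x =>
    ⟨blk d (fun i => (x.1.1 i : oGroup (q2 F))) * sg d x.1.2 * prm d x.2, _, _, _, fun i => (x.1.1 i).2, x.2.2, rfl⟩
  have hf : Function.Bijective f := by
    refine ⟨fun x y h => ?_, ?_⟩
    · have hL : ∀ w : Sp F k r, (fun i => (x.1.1 i).1.1 (w.1 ((x.2 : Equiv.Perm _).symm i)),
            fun j => (sgn' F (x.1.2 j) : F) * w.2 j) =
          ((fun i => (y.1.1 i).1.1 (w.1 ((y.2 : Equiv.Perm _).symm i)),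
            fun j => (sgn' F (y.1.2 j) : F) * w.2 j) : Sp F k r) := fun w =>
        LinearEquiv.congr_fun (congrArg Subtype.val (congrArg Subtype.val h)) w
      have hσ : ∀ i, (x.2 : Equiv.Perm (Fin k)).symm i = (y.2 : Equiv.Perm (Fin k)).symm i := by
        intro i
        by_contra hne
        have h1 := congrFun (congrArg Prod.fst (hL (Pi.single ((x.2 : Equiv.Perm _).symm i) (Pi.single 0 1), 0))) i
        simp only [Pi.single_eq_same, Pi.single_eq_of_ne (Ne.symm hne), map_zero] at h1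
        rw [LinearEquiv.map_eq_zero_iff, Pi.single_eq_zero_iff] at h1
        exact one_ne_zero h1
      have hv : x.1.1 = y.1.1 := funext fun i => Subtype.ext (Subtype.ext (LinearEquiv.ext fun u => by
        have h1 := congrFun (congrArg Prod.fst (hL (Pi.single ((x.2 : Equiv.Perm _).symm i) u, 0))) i
        simpa only [Pi.single_eq_same, ← hσ i] using h1))
      have hz : x.1.2 = y.1.2 := funext fun j => by
        have h1 := congrFun (congrArg Prod.snd (hL (0, Pi.single j 1))) j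
        simp only [Pi.single_eq_same, mul_one] at h1
        have hne : (1 : F) ≠ -1 := fun h => h2 (by linear_combination h)
        rcases Int.units_eq_one_or (x.1.2 j) with hx | hx <;>
          rcases Int.units_eq_one_or (y.1.2 j) with hy | hy <;> rw [hx, hy] at h1 ⊢ <;>
          simp [sgn', hne, hne.symm] at h1
      exact Prod.ext (Prod.ext hv hz) (Subtype.ext (Equiv.symm_bijective.injective (Equiv.ext hσ)))
    · rintro ⟨g, v, σ, z, hv, hσ, rfl⟩
      exact ⟨((fun i => ⟨v i, hv i⟩, z), ⟨σ, hσ⟩), rfl⟩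
  rw [← Nat.card_congr (Equiv.ofBijective f hf), Nat.card_prod, Nat.card_prod, Nat.card_fun, Nat.card_fun,
    Nat.card_fin, Nat.card_fin, show Nat.card ℤˣ = 2 by simp [Nat.card_eq_fintype_card]]

omit [Fintype F] in
theorem blk_refl (h2 : (2 : F) ≠ 0) (i : Fin k) {g : oGroup (q2 F)} {a : Fin 2 → F}
    (h : IsRefl g.1 (q2 F) a) :
    IsRefl (blk d (Pi.mulSingle i g)).1 (qModel k d) (Pi.single i a, 0) ∧
      qModel k d (Pi.single i a, 0) = q2 F a := by
  have hq : qModel k d (Pi.single i a, 0) = q2 F a := by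
    rw [qModel_apply, Finset.sum_eq_single i (fun j _ hj => by simp [Pi.single_eq_of_ne hj]) (by simp)]
    simp
  have _ := h2
  refine ⟨⟨by rw [hq]; exact h.1, fun x => ?_⟩, hq⟩
  rw [blk_apply, hq, polar_qModel, Finset.sum_eq_single i (fun j _ hj => by simp [Pi.single_eq_of_ne hj, polar_q2])
    (by simp)]
  refine Prod.ext (funext fun j => ?_) ?_
  · rcases eq_or_ne j i with rfl | hj
    · simp [h.2]
    · simp [Pi.mulSingle_eq_of_ne hj, Pi.single_eq_of_ne hj]
  · simp

omit [Fintype F] in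
theorem sg_refl (h2 : (2 : F) ≠ 0) (hd : ∀ j, d j ≠ 0) (j : Fin r) :
    IsRefl (sg (k := k) d (Pi.mulSingle j (-1))).1 (qModel k d) (0, Pi.single j 1) ∧
      qModel k d (0, Pi.single j 1) = d j := by
  have hq : qModel k d (0, Pi.single j 1) = d j := by
    rw [qModel_apply, Finset.sum_eq_single j (fun i _ hi => by simp [Pi.single_eq_of_ne hi]) (by simp)]
    simp [q2_apply]
  refine ⟨⟨by rw [hq]; exact hd j, fun x => ?_⟩, hq⟩
  rw [sg_apply, hq, polar_qModel, Finset.sum_eq_single j (fun i _ hi => by simp [Pi.single_eq_of_ne hi]) (by simp)]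
  refine Prod.ext (by simp) (funext fun i => ?_)
  rcases eq_or_ne i j with rfl | hi
  · have := hd i
    simp [sgn', polar_q2]
    field_simp
    ring
  · simp [Pi.mulSingle_eq_of_ne hi, Pi.single_eq_of_ne hi]

/-- Permutations of the planes have trivial invariant. -/
theorem chi_prm (h2 : (2 : F) ≠ 0) (χ : oGroup (qModel k d) →* SpinVal F)
    (hχ : ∀ (g : oGroup (qModel k d)) (v : Sp F k r), IsRefl g.1 (qModel k d) v → χ g = reflVal (qModel k d) v)
    (σ : Equiv.Perm (Fin k)) : χ (prm d σ) = 1 := by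
  induction σ using Equiv.Perm.swap_induction_on with
  | one => rw [map_one, map_one]
  | swap_mul σ i j hij ih =>
    rw [map_mul, map_mul, ih, mul_one]
    let u : Fin 2 → Sp F k r := fun c => (Pi.single i (Pi.single c 1) - Pi.single j (Pi.single c 1), 0)
    have hu : ∀ c, qModel k d (u c) = 2 := by
      intro c
      rw [qModel_apply, Finset.sum_eq_add i j hij (fun l _ hl => by simp [u, Pi.single_eq_of_ne hl.1, Pi.single_eq_of_ne hl.2])
        (by simp) (by simp)]
      fin_cases c <;> simp [u, q2_apply, Pi.single_eq_of_ne hij, Pi.single_eq_of_ne hij.symm] <;> norm_num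
    have hpol : ∀ c (x : Sp F k r), polar (qModel k d) x (u c) = 2 * (x.1 i c - x.1 j c) := by
      intro c x
      rw [polar_qModel, Finset.sum_eq_add i j hij (fun l _ hl => by simp [u, Pi.single_eq_of_ne hl.1, Pi.single_eq_of_ne hl.2, polar_q2])
        (by simp) (by simp)]
      fin_cases c <;> simp [u, polar_q2, Pi.single_eq_of_ne hij, Pi.single_eq_of_ne hij.symm] <;> ring
    have hu0 : ∀ c, qModel k d (u c) ≠ 0 := fun c => by rw [hu]; exact h2
    obtain ⟨r0, hr0, hr0'⟩ := exists_isRefl (Q := qModel k d) (hu0 0)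
    obtain ⟨r1, hr1, hr1'⟩ := exists_isRefl (Q := qModel k d) (hu0 1)
    have he : prm d (Equiv.swap i j) = (⟨r0, hr0⟩ : oGroup (qModel k d)) * ⟨r1, hr1⟩ := by
      refine Subtype.ext (LinearEquiv.ext fun x => ?_)
      show (prm d (Equiv.swap i j)).1 x = r0 (r1 x)
      rw [prm_apply, hr0'.2, hr1'.2, hpol, hpol, hu, hu]
      refine Prod.ext (funext fun l => funext fun c => ?_) (by simp [u])
      simp only [Function.comp_apply, Equiv.symm_swap, Prod.fst_sub, Prod.smul_fst, Pi.sub_apply, Pi.smul_apply,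
        smul_eq_mul, u]
      rcases eq_or_ne l i with rfl | hli
      · rw [Equiv.swap_apply_left]
        fin_cases c <;> simp [Pi.single_eq_of_ne hij, Pi.single_eq_of_ne hij.symm] <;> field_simp <;> ring
      rcases eq_or_ne l j with rfl | hlj
      · rw [Equiv.swap_apply_right]
        fin_cases c <;> simp [Pi.single_eq_of_ne hij, Pi.single_eq_of_ne hij.symm] <;> field_simp <;> ring
      · rw [Equiv.swap_apply_of_ne_of_ne hli hlj]
        simp [Pi.single_eq_of_ne hli, Pi.single_eq_of_ne hlj]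
    rw [he, map_mul, hχ _ _ hr0', hχ _ _ hr1', reflVal, reflVal, hu, hu]
    exact reflVal_mul_self (Q := qModel k d) (v := u 0) (hu0 0) |> fun h => by rw [reflVal, hu] at h; exact h

theorem sqComm_ker (hF : Odd (Nat.card F)) (hd : ∀ j, d j ≠ 0) (hk : 2 ≤ k)
    (χ : oGroup (qModel k d) →* SpinVal F)
    (hχ : ∀ (g : oGroup (qModel k d)) (v : Sp F k r), IsRefl g.1 (qModel k d) v → χ g = reflVal (qModel k d) v) :
    ∃ R : Subgroup (oGroup (qModel k d)),
      Nat.card R = 2 ^ (k * cVal F + r + padicValNat 2 k.factorial) ∧ SqComm (R ⊓ χ.ker : Subgroup _) := by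
  classical
  haveI := Fact.mk Nat.prime_two
  have h2 := two_ne_of_odd hF
  obtain ⟨W, χ2, hWc, hχ2, hWs, hWodd, hWpar⟩ := exists_plane_sylow hF
  obtain ⟨T⟩ : Nonempty (Sylow 2 (Equiv.Perm (Fin k))) := inferInstance
  let R := bigSub d W (T : Subgroup (Equiv.Perm (Fin k)))
  refine ⟨R, ?_, ?_⟩
  · rw [card_bigSub d h2, hWc, SylTwoClassical.card_sylow, Nat.card_perm, Nat.card_fin, ← pow_mul, ← pow_add,
      ← pow_add, mul_comm]
  have hblkR : ∀ i, ∀ w ∈ W, blk d (Pi.mulSingle i w) ∈ R := fun i w hw =>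
    ⟨Pi.mulSingle i w, 1, 1, fun l => by
      rcases eq_or_ne l i with rfl | hl
      · simpa using hw
      · simp [Pi.mulSingle_eq_of_ne hl], one_mem _, by simp⟩
  have hsgR : ∀ z, sg d z ∈ R := fun z => ⟨1, 1, z, fun _ => one_mem _, one_mem _, by simp⟩
  have hchi : ∀ i w, w ∈ W → (χ2 w).1 ≠ 1 → χ (blk d (Pi.mulSingle i w)) = χ2 w := by
    intro i w hw ho
    obtain ⟨-, v, hv⟩ := hWodd w hw ho
    obtain ⟨h1, h3⟩ := blk_refl d h2 i hv
    rw [hχ _ _ h1, hχ2 _ _ hv, reflVal, reflVal, h3]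
  have hdisj : ∀ i l : Fin k, i ≠ l → ∀ w w' : oGroup (q2 F),
      blk d (Pi.mulSingle i w) * blk d (Pi.mulSingle l w') =
        blk d (Pi.mulSingle l w') * blk d (Pi.mulSingle i w) := fun i l hil w w' => by
    rw [← map_mul, ← map_mul, (Pi.mulSingle_commute (f := fun _ : Fin k => oGroup (q2 F)) hil w w').eq]
  have hone : (Multiplicative.ofAdd (1 : ZMod 2)) ≠ 1 :=
    fun h => absurd (congrArg Multiplicative.toAdd h) one_ne_zero
  choose ws hws hwsχ using hWs
  have hwso : ∀ c, (χ2 (ws c)).1 ≠ 1 := fun c => by rw [hwsχ]; exact hone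
  let Atom : Set (oGroup (qModel k d)) :=
    {g | (∃ i w, w ∈ W ∧ (χ2 w).1 ≠ 1 ∧ g = blk d (Pi.mulSingle i w)) ∨ ∃ j, g = sg d (Pi.mulSingle j (-1))}
  have hodd : ∀ a ∈ Atom, (χ a).1 = Multiplicative.ofAdd (1 : ZMod 2) := by
    rintro a (⟨i, w, hw, ho, rfl⟩ | ⟨j, rfl⟩)
    · rw [hchi i w hw ho]
      obtain ⟨-, v, hv⟩ := hWodd w hw ho
      rw [hχ2 _ _ hv]; rfl
    · rw [hχ _ _ (sg_refl d h2 hd j).1]; rfl
  obtain ⟨γ, hγ⟩ : ∃ γ : SqCls F, γ ≠ 1 := by
    by_contra h
    push Not at h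
    haveI : Subsingleton (SqCls F) := ⟨fun a b => (h a).trans (h b).symm⟩
    have := (card_sqCls_le (F := F)).2.1 h2
    rw [Nat.card_of_subsingleton (1 : SqCls F)] at this
    omega
  have hcls : ∀ c : SqCls F, c = 1 ∨ c = γ := by
    intro c
    by_contra h
    push Not at h
    haveI := Fintype.ofFinite (SqCls F)
    have h3 : ({1, γ, c} : Finset (SqCls F)).card = 3 := by
      rw [Finset.card_insert_of_notMem (by simp [hγ.symm, h.1.symm]), Finset.card_pair h.2.symm]
    have h4 := ({1, γ, c} : Finset (SqCls F)).card_le_univ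
    have hle := (card_sqCls_le (F := F)).1
    rw [Nat.card_eq_fintype_card] at hle
    omega
  haveI : Nontrivial (Fin k) := Fin.nontrivial_iff_two_le.2 hk
  have h01 : (⟨0, by omega⟩ : Fin k) ≠ ⟨1, by omega⟩ := by simp [Fin.ext_iff]
  obtain ⟨f, hf⟩ : ∃ f : ↥(T : Subgroup (Equiv.Perm (Fin k))) →* oGroup (qModel k d),
      ∀ t, f t = prm d (t : Equiv.Perm (Fin k)) :=
    ⟨(prm d).comp (T : Subgroup (Equiv.Perm (Fin k))).subtype, fun t => rfl⟩
  have hfR : ∀ t, f t ∈ R := fun t => ⟨1, t, 1, fun _ => one_mem _, t.2, by rw [hf, map_one, map_one, one_mul, one_mul]⟩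
  have hfχ : ∀ t, χ (f t) = 1 := fun t => by rw [hf]; exact chi_prm d h2 χ hχ _
  have hA : blk d (Pi.mulSingle (⟨0, by omega⟩ : Fin k) (ws 1)) ∈ Atom := Or.inl ⟨_, _, hws _, hwso _, rfl⟩
  have hB : blk d (Pi.mulSingle (⟨1, by omega⟩ : Fin k) (ws γ)) ∈ Atom := Or.inl ⟨_, _, hws _, hwso _, rfl⟩
  refine sqComm_of_atoms (G := oGroup (qModel k d)) (Z := SpinVal F)
    (H := ↥(T : Subgroup (Equiv.Perm (Fin k)))) χ R Atom ?_ ?_ ?_ _ _ hA hB (hdisj _ _ h01 _ _) ?_ ?_ f
    (SylTwoClassical.sqComm_sylow_perm k T) hfR hfχ ?_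
  · rintro a (⟨i, w, hw, -, rfl⟩ | ⟨j, rfl⟩)
    exacts [hblkR i w hw, hsgR _]
  · rintro a (⟨i, w, hw, ho, rfl⟩ | ⟨j, rfl⟩)
    · rw [← map_mul, ← Pi.mulSingle_mul, (hWodd w hw ho).1, Pi.mulSingle_one, map_one]
    · rw [← map_mul, ← Pi.mulSingle_mul, Int.units_mul_self, Pi.mulSingle_one, map_one]
  · rintro a (⟨i, w, hw, ho, rfl⟩ | ⟨j, rfl⟩) b hb he hab
    swap
    · refine absurd ?_ hab
      rcases hb with ⟨l, w', -, -, rfl⟩ | ⟨l, rfl⟩
      · exact sg_comm_blk d _ _
      · rw [← map_mul, ← map_mul, mul_comm]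
    rcases hb with ⟨l, w', hw', ho', rfl⟩ | ⟨l, rfl⟩
    swap
    · exact absurd (sg_comm_blk d _ _).symm hab
    have hil : i = l := by_contra fun h => hab (hdisj i l h w w')
    subst hil
    obtain ⟨l, hl⟩ := exists_ne i
    refine ⟨_, Or.inl ⟨l, _, hws (χ2 w).2, hwso _, rfl⟩, hdisj i l hl.symm _ _, hdisj l i hl _ _, ?_⟩
    rw [hchi _ _ (hws _) (hwso _), hwsχ, hchi i w hw ho]
    exact Prod.ext ((hchi i w hw ho) ▸ (hodd _ (Or.inl ⟨i, w, hw, ho, rfl⟩)).symm) rfl
  · intro a ha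
    rcases hcls (χ a).2 with h | h
    · left; rw [hchi _ _ (hws _) (hwso _), hwsχ]; exact Prod.ext (hodd a ha) h
    · right; rw [hchi _ _ (hws _) (hwso _), hwsχ]; exact Prod.ext (hodd a ha) h
  · rw [map_mul, hchi _ _ (hws _) (hwso _), hchi _ _ (hws _) (hwso _), hwsχ, hwsχ]
    refine ⟨fun h => hone (congrArg Prod.fst h), fun h => hone (congrArg Prod.fst h), fun h => hγ ?_⟩
    have h' := congrArg Prod.snd h
    simpa using h'
  · rintro x ⟨v, σ, z, hv, hσ, rfl⟩ -
    refine ⟨blk d v * sg d z, Subgroup.mul_mem _ ?_ ?_, ⟨σ, hσ⟩, by rw [hf]⟩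
    · refine (Subgroup.pi_mem_of_mulSingle_mem (H := (Subgroup.closure Atom).comap (blk d)) v fun i => ?_ :
        v ∈ (Subgroup.closure Atom).comap (blk d))
      show blk d (Pi.mulSingle i (v i)) ∈ Subgroup.closure Atom
      by_cases ho : (χ2 (v i)).1 = 1
      · have hsplit : v i = ws 1 * (ws 1 * v i) := by rw [← mul_assoc, (hWodd _ (hws 1) (hwso 1)).1, one_mul]
        rw [hsplit, Pi.mulSingle_mul, map_mul]
        exact Subgroup.mul_mem _ (Subgroup.subset_closure (Or.inl ⟨i, _, hws 1, hwso 1, rfl⟩))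
          (Subgroup.subset_closure (Or.inl ⟨i, _, W.mul_mem (hws 1) (hv i),
            hWpar _ (hv i) ho _ (hws 1) (hwso 1), rfl⟩))
      · exact Subgroup.subset_closure (Or.inl ⟨i, _, hv i, ho, rfl⟩)
    · refine (Subgroup.pi_mem_of_mulSingle_mem (H := (Subgroup.closure Atom).comap (sg d)) z fun j => ?_ :
        z ∈ (Subgroup.closure Atom).comap (sg d))
      show sg d (Pi.mulSingle j (z j)) ∈ Subgroup.closure Atom
      rcases Int.units_eq_one_or (z j) with h | h <;> rw [h]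
      · simp
      · exact Subgroup.subset_closure (Or.inr ⟨j, rfl⟩)

end Cfsg.Agent.OrthSylOdd
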