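/-
Squares in the derived group of a Sylow 2-subgroup of Ω, odd characteristic.
-/
import Cfsg.Agent.Lib.Orthogonal.SylowOdd.Wreath
import Cfsg.Agent.Lib.Orthogonal.Frames

set_option autoImplicit false

namespace Cfsg.Agent.OrthSylOdd

open QuadraticMap Module
open Cfsg.Agent.Orth
open Cfsg.Agent.SylTwoWreath (SqComm sqComm_of_surjective)

variable {F : Type*} [Field F]

theorem q_frame_sum {V κ : Type*} [AddCommGroup V] [Module F V] (Q : QuadraticForm F V) {e : κ → V}
    (he : ∀ i j, i ≠ j → polar Q (e i) (e j) = 0) (s : Finset κ) (a : κ → F) :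
    Q (∑ t ∈ s, a t • e t) = ∑ t ∈ s, a t * a t * Q (e t) ∧
      ∀ t ∉ s, polar Q (∑ u ∈ s, a u • e u) (e t) = 0 := by
  classical
  induction s using Finset.induction_on with
  | empty => exact ⟨by simp, fun t _ => by simp [polar]⟩
  | insert i s hi ih =>
    rw [Finset.sum_insert hi, Finset.sum_insert hi]
    refine ⟨?_, fun t ht => ?_⟩
    · rw [q_add, q_smul, ih.1, b_smul_left, b_comm, ih.2 i hi, mul_zero, add_zero]
    · rw [Finset.mem_insert, not_or] at ht
      rw [b_add_left, b_smul_left, he i t (Ne.symm ht.1), ih.2 t ht.2, mul_zero, zero_add]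

theorem nondeg_frame_model [Fintype F] {ι : Type} [Fintype ι] [DecidableEq ι] (h2 : (2 : F) ≠ 0) {k r : ℕ}
    (Q : QuadraticForm F (ι → F)) (e : (Fin k × Fin 2) ⊕ Fin r → (ι → F)) (he : IsFrame Q e)
    (h1 : ∀ i, Q (e (.inl i)) = 1) (hcard : Fintype.card ι = 2 * k + r) :
    ∃ L : Sp F k r ≃ₗ[F] (ι → F), ∀ x, Q (L x) = qModel k (fun j => Q (e (.inr j))) x := by
  let c : Sp F k r →ₗ[F] ((Fin k × Fin 2) ⊕ Fin r → F) :=
    { toFun := fun x => Sum.elim (fun p => x.1 p.1 p.2) x.2
      map_add' := fun x y => by ext (p | j) <;> rfl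
      map_smul' := fun a x => by ext (p | j) <;> rfl }
  let f : Sp F k r →ₗ[F] (ι → F) := (Fintype.linearCombination F e).comp c
  have hinj : Function.Injective f := by
    intro x y h
    have h' : c x = c y := (linearIndependent_iff_injective_fintypeLinearCombination.1 (he.indep h2)) h
    exact Prod.ext (funext fun i => funext fun b => congrFun h' (.inl (i, b))) (funext fun j => congrFun h' (.inr j))
  have hfr : finrank F (Sp F k r) = finrank F (ι → F) := by
    rw [Module.finrank_prod, Module.finrank_pi_fintype]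
    simp [hcard, mul_comm]
  refine ⟨LinearEquiv.ofBijective f ⟨hinj, (LinearMap.injective_iff_surjective_of_finrank_eq_finrank hfr).1 hinj⟩,
    fun x => ?_⟩
  show Q (Fintype.linearCombination F e (c x)) = _
  rw [Fintype.linearCombination_apply, (q_frame_sum Q he.1 Finset.univ (c x)).1, qModel_apply, Fintype.sum_sum_type,
    Fintype.sum_prod_type]
  refine congrArg₂ (· + ·) (Finset.sum_congr rfl fun i _ => ?_) (Finset.sum_congr rfl fun j _ => mul_comm _ _)
  rw [Fin.sum_univ_two, h1, h1, q2_apply]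
  show x.1 i 0 * x.1 i 0 * 1 + x.1 i 1 * x.1 i 1 * 1 = _
  ring

/-- The general statement: an orthonormal part of k planes and r more lines. -/
theorem sqComm_omega [Fintype F] {ι : Type} [Fintype ι] [DecidableEq ι] (hF : Odd (Nat.card F)) {k r : ℕ}
    (hk : 2 ≤ k) (Q : QuadraticForm F (ι → F)) (hQ : (polarBilin Q).Nondegenerate)
    (e : (Fin k × Fin 2) ⊕ Fin r → (ι → F)) (he : IsFrame Q e) (h1 : ∀ i, Q (e (.inl i)) = 1)
    (hcard : Fintype.card ι = 2 * k + r)
    (hv : padicValNat 2 (Nat.card (oGroup Q)) = k * cVal F + r + padicValNat 2 k.factorial)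
    (P : Sylow 2 ↥(Cfsg.Omega F (⇑Q))) : SqComm (P : Subgroup ↥(Cfsg.Omega F (⇑Q))) := by
  haveI := Fact.mk Nat.prime_two
  have h2 := two_ne_of_odd hF
  obtain ⟨L, hL⟩ := nondeg_frame_model h2 Q e he h1 hcard
  set d := fun j => Q (e (.inr j))
  have hd : ∀ j, d j ≠ 0 := fun j => he.2 _
  have hQ' := qModel_nondeg (k := k) h2 d hd
  have hF2 : Fintype.card F ≠ 2 ∨ finrank F (Sp F k r) ≠ 4 := Or.inl fun h => by
    rw [Nat.card_eq_fintype_card, h] at hF; exact absurd hF (by decide)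
  have hdim : 2 ≤ finrank F (Sp F k r) := by
    rw [Module.finrank_prod, Module.finrank_pi_fintype]
    simp
    omega
  obtain ⟨χ, hχ⟩ := exists_spinor hQ' hF2
  obtain ⟨hker, -⟩ := spinor_spec hQ' hdim hF2 χ hχ
  obtain ⟨R, hR, hsq⟩ := sqComm_ker d hF hd hk χ hχ
  let Φ : ↥(Cfsg.isometryGroup F (⇑Q)) ≃* ↥(oGroup (qModel k d)) :=
    (isoEquiv Q).trans (oCongr L hL).symm
  let f : ↥(Cfsg.Omega F (⇑Q)) →* ↥(oGroup (qModel k d)) :=
    Φ.toMonoidHom.comp (Cfsg.Omega F (⇑Q)).subtype
  have hr : f.range = χ.ker := by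
    rw [hker, MonoidHom.range_comp, Subgroup.range_subtype]
    show (commutator _).map Φ.toMonoidHom = commutator _
    rw [commutator_def, commutator_def, Subgroup.map_commutator,
      Subgroup.map_top_of_surjective _ Φ.surjective]
  haveI : f.range.Normal := hr ▸ MonoidHom.normal_ker _
  haveI : Finite (Sp F k r) := inferInstance
  haveI : Finite ↥(oGroup (qModel k d)) := Subtype.finite
  have hRc : Nat.card R = 2 ^ (Nat.card ↥(oGroup (qModel k d))).factorization 2 := by
    rw [hR, Nat.factorization_def _ Nat.prime_two, Nat.card_congr (oCongr L hL).toEquiv, hv]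
  exact SylTwoClassical.sqComm_of_card f (Φ.injective.comp Subtype.val_injective) R hRc P _
    (by rw [hr]) hsq

theorem val_prod_even [Fintype F] (hF : Odd (Nat.card F)) : ∀ j : ℕ,
    padicValNat 2 (∏ i ∈ Finset.range j, (Nat.card F ^ (2 * (i + 1)) - 1)) = j * cVal F + padicValNat 2 j.factorial
  | 0 => by simp
  | j + 1 => by
    have hq1 : 1 < Nat.card F := Finite.one_lt_card
    have hpos : ∀ i, Nat.card F ^ (2 * (i + 1)) - 1 ≠ 0 := fun i => by
      have : 1 < Nat.card F ^ (2 * (i + 1)) := Nat.one_lt_pow (by omega) hq1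
      omega
    rw [Finset.prod_range_succ, padicValNat.mul (Finset.prod_ne_zero_iff.2 fun i _ => hpos i) (hpos j),
      val_prod_even hF j, SylTwoClassical.val_even_pow hq1 hF, Nat.factorial_succ,
      padicValNat.mul (by omega) j.factorial_ne_zero, cVal]
    ring

theorem val_card_main [Fintype F] (hF : Odd (Nat.card F)) {N a j : ℕ} (hN : N ≠ 0) :
    padicValNat 2 (2 * Nat.card F ^ a * N * ∏ i ∈ Finset.range j, (Nat.card F ^ (2 * (i + 1)) - 1)) =
      1 + padicValNat 2 N + j * cVal F + padicValNat 2 j.factorial := by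
  have hq1 : 1 < Nat.card F := Finite.one_lt_card
  have hprod : ∏ i ∈ Finset.range j, (Nat.card F ^ (2 * (i + 1)) - 1) ≠ 0 :=
    Finset.prod_ne_zero_iff.2 fun i _ => by
      have : 1 < Nat.card F ^ (2 * (i + 1)) := Nat.one_lt_pow (by omega) hq1
      omega
  have ha : Nat.card F ^ a ≠ 0 := pow_ne_zero _ (by omega)
  rw [padicValNat.mul (by simp [ha, hN]) hprod, padicValNat.mul (by simp [ha]) hN, padicValNat.mul two_ne_zero ha,
    padicValNat.self (by norm_num), padicValNat.eq_zero_of_not_dvd (n := Nat.card F ^ a)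
      (fun h => (Nat.not_even_iff_odd.2 hF.pow) (even_iff_two_dvd.2 h)), val_prod_even hF]
  ring

/-- A frame with values 1 except possibly at the last place. -/
theorem exists_split_frame [Fintype F] {ι : Type} [Fintype ι] [DecidableEq ι] (h2 : (2 : F) ≠ 0) {k r : ℕ}
    (Q : QuadraticForm F (ι → F)) (hQ : (polarBilin Q).Nondegenerate) (hcard : Fintype.card ι = 2 * k + r)
    (hk : 0 < k) (h0 : r = 0 → ∃ e' : ι → (ι → F), IsFrame Q e' ∧ IsSquare (∏ i, Q (e' i))) :
    ∃ e : (Fin k × Fin 2) ⊕ Fin r → (ι → F), IsFrame Q e ∧ ∀ i, Q (e (.inl i)) = 1 := by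
  classical
  obtain ⟨α, hα⟩ := FiniteField.exists_nonsquare (F := F) (fun h => h2 (by
    haveI := ringChar.of_eq h; exact CharTwo.two_eq_zero))
  obtain ⟨n, hn⟩ : ∃ n, 2 * k + r = n + 1 := ⟨2 * k + r - 1, by omega⟩
  obtain ⟨f, hf, hf1, hflast⟩ := exists_normal_frame hQ h2 (n := n)
    (by rw [Module.finrank_fintype_fun_eq_card]; omega) hα
  let σ : (Fin k × Fin 2) ⊕ Fin r ≃ Fin (n + 1) :=
    ((Equiv.sumCongr finProdFinEquiv (Equiv.refl _)).trans finSumFinEquiv).trans
      (finCongr (by omega))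
  refine ⟨f ∘ σ, ⟨fun i j hij => hf.1 _ _ (σ.injective.ne hij), fun i => hf.2 _⟩, fun i => ?_⟩
  by_cases hlast : σ (.inl i) = Fin.last n
  swap
  · exact hf1 _ hlast
  have hr0 : r = 0 := by
    have h := congrArg Fin.val hlast
    have := (finProdFinEquiv i).2
    simp [σ] at h
    omega
  obtain ⟨e', he', hsq⟩ := h0 hr0
  show Q (f (σ (.inl i))) = 1
  rw [hlast]
  refine hflast.resolve_right fun hval => hα ?_
  let τ : ι ≃ Fin (n + 1) := (Fintype.equivFin ι).trans (finCongr (by omega))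
  have hcl := frame_class Q hQ h2 (e := f ∘ τ) (e' := e')
    ⟨fun i j hij => hf.1 _ _ (τ.injective.ne hij), fun i => hf.2 _⟩ he'
  have hp : ∏ i, Q ((f ∘ τ) i) = α := by
    rw [show (∏ i, Q ((f ∘ τ) i)) = ∏ l, Q (f l) from Equiv.prod_comp τ fun l => Q (f l),
      Finset.prod_eq_single (Fin.last n) (fun l _ hl => hf1 l hl) (by simp), hval]
  rw [hp, (sqc_eq_one_iff (Finset.prod_ne_zero_iff.2 fun i _ => he'.2 i)).2 hsq] at hcl
  exact (sqc_eq_one_iff (fun h : α = 0 => hα ⟨0, by rw [h]; ring⟩)).1 hcl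

end Cfsg.Agent.OrthSylOdd
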