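/-
The three families.
-/
import Cfsg.Agent.Lib.Orthogonal.SylowOdd.Main

set_option autoImplicit false

namespace Cfsg.Agent.OrthSylOdd

open QuadraticMap Module
open Cfsg.Agent.Orth
open Cfsg.Agent.SylTwoWreath (SqComm)

variable {F : Type*} [Field F] [Fintype F]

/-- The sum and difference of a hyperbolic pair. -/
def hypVec (F : Type*) [Field F] {m : ℕ} : Fin m ⊕ Fin m → (Fin m ⊕ Fin m → F) :=
  Sum.elim (fun i => Pi.single (.inl i) 1 + Pi.single (.inr i) 1)
    (fun i => Pi.single (.inl i) 1 - Pi.single (.inr i) 1)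

/-- The signs of the values on `hypVec`. -/
def hypVal (F : Type*) [Field F] {m : ℕ} : Fin m ⊕ Fin m → F := Sum.elim (fun _ => 1) (fun _ => -1)

omit [Fintype F] in
theorem hyp_prod (m : ℕ) : ∏ i, hypVal F (m := m) i = (-1 : F) ^ m := by
  rw [Fintype.prod_sum_type]; simp [hypVal]

omit [Fintype F] in
theorem hyp_sum (m : ℕ) (i l : Fin m ⊕ Fin m) :
    (∑ j, hypVec F i (.inl j) * hypVec F i (.inr j) = hypVal F i) ∧
      (i ≠ l → ∑ j, (hypVec F i (.inl j) * hypVec F l (.inr j) + hypVec F l (.inl j) * hypVec F i (.inr j)) = 0) := by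
  constructor
  · rcases i with i | i <;> rw [Finset.sum_eq_single i (fun j _ hj => by simp [hypVec, hj]) (by simp)] <;>
      simp [hypVec, hypVal]
  · intro hil
    refine Finset.sum_eq_zero fun j _ => ?_
    rcases i with i | i <;> rcases l with l | l <;> rcases eq_or_ne j i with rfl | h1 <;>
      rcases eq_or_ne j l with rfl | h2 <;> simp_all [hypVec, Pi.single_apply]

omit [Fintype F] in
theorem isSquare_of_mod (hq : Odd (Nat.card F)) [Finite F] {m : ℕ} (h : Nat.card F ^ m % 4 = 1) :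
    IsSquare ((-1 : F) ^ m) := by
  haveI := Fintype.ofFinite F
  rcases Nat.even_or_odd m with hm | hm
  · rw [hm.neg_one_pow]; exact ⟨1, (one_mul 1).symm⟩
  · rw [hm.neg_one_pow, FiniteField.isSquare_neg_one_iff, ← Nat.card_eq_fintype_card]
    intro h3
    obtain ⟨t, rfl⟩ := hm
    rw [pow_succ, pow_mul, Nat.mul_mod, Nat.pow_mod, Nat.pow_mod (Nat.card F) 2 4, h3] at h
    norm_num at h

omit [Fintype F] in
theorem not_square_neg_one [Finite F] {m : ℕ} (hq : Odd (Nat.card F)) (h : Nat.card F ^ m % 4 = 3) :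
    Odd m ∧ ¬ IsSquare (-1 : F) := by
  haveI := Fintype.ofFinite F
  have h4 : Nat.card F % 4 = 3 := by
    rcases pow_mod_four hq 1 with h1 | h1 <;> rw [pow_one] at h1
    · rw [Nat.pow_mod, h1, one_pow] at h; omega
    · exact h1
  refine ⟨Nat.not_even_iff_odd.1 fun ⟨t, ht⟩ => ?_, by
    rw [FiniteField.isSquare_neg_one_iff, ← Nat.card_eq_fintype_card]; omega⟩
  rw [ht, ← two_mul, pow_mul, Nat.pow_mod, Nat.pow_mod (Nat.card F) 2 4, h4] at h
  norm_num at h

theorem sqComm_plus (hF : Odd (Nat.card F)) (m : ℕ) (hm : 1 ≤ m) (hm' : Even m ∨ 4 ≤ m)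
    (P : Sylow 2 ↥(Cfsg.Omega F (⇑(qPlus F m)))) :
    SqComm (P : Subgroup ↥(Cfsg.Omega F (⇑(qPlus F m)))) := by
  have h2 := two_ne_of_odd hF
  have hq1 : 1 < Nat.card F := Finite.one_lt_card
  obtain ⟨j, rfl⟩ : ∃ j, m = j + 1 := ⟨m - 1, by omega⟩
  have hQ := qPlus_nondeg (F := F) (j + 1)
  have hN : Nat.card F ^ (j + 1) - 1 ≠ 0 := by
    have : 1 < Nat.card F ^ (j + 1) := Nat.one_lt_pow (by omega) hq1
    omega
  have hv := val_card_main (F := F) hF (a := (j + 1) * j) (j := j) hN
  rw [← card_oGroup_qPlus] at hv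
  obtain ⟨hA, hB⟩ := val_sign_pow hq1 hF (m := j + 1) (by omega)
  have hj2 : Even (j + 1) → 1 ≤ j := fun ⟨t, ht⟩ => by omega
  rcases pow_mod_four hF (j + 1) with h | h
  · have hf : IsFrame (qPlus F (j + 1)) (hypVec F) := by
      refine ⟨fun i l hil => ?_, fun i => ?_⟩
      · rw [polar, coe_qPlus, Cfsg.quadFormPlus, Cfsg.quadFormPlus, Cfsg.quadFormPlus,
          ← (hyp_sum (F := F) (j + 1) i l).2 hil, ← Finset.sum_sub_distrib, ← Finset.sum_sub_distrib]
        exact Finset.sum_congr rfl fun t _ => by simp only [Pi.add_apply]; ring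
      · rw [congrFun (coe_qPlus (F := F) (j + 1)) _, Cfsg.quadFormPlus, (hyp_sum (F := F) (j + 1) i i).1]
        rcases i with i | i <;> simp [hypVal]
    have hsq : IsSquare (∏ i, qPlus F (j + 1) (hypVec F i)) := by
      rw [Finset.prod_congr rfl fun i _ => show qPlus F (j + 1) (hypVec F i) = hypVal F i by
        rw [congrFun (coe_qPlus (F := F) (j + 1)) _, Cfsg.quadFormPlus, (hyp_sum (F := F) (j + 1) i i).1], hyp_prod]
      exact isSquare_of_mod hF h
    have hk : 2 ≤ j + 1 := by rcases hm' with h' | h' <;> [have := hj2 h'; skip] <;> omega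
    obtain ⟨e, he, he1⟩ := exists_split_frame (k := j + 1) (r := 0) h2 (qPlus F (j + 1)) hQ
      (by simp; ring) (by omega) fun _ => ⟨_, hf, hsq⟩
    refine sqComm_omega hF hk _ hQ e he he1 (by simp; ring) ?_ P
    rw [hv, Nat.factorial_succ, padicValNat.mul (by omega) j.factorial_ne_zero, add_one_mul]
    have := hA h
    simp only [cVal] at *
    omega
  · obtain ⟨hodd, -⟩ := not_square_neg_one hF h
    have hj : 2 ≤ j := by
      rcases hm' with h' | h'
      · exact absurd h' (Nat.not_even_iff_odd.2 hodd)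
      · omega
    obtain ⟨e, he, he1⟩ := exists_split_frame (k := j) (r := 2) h2 (qPlus F (j + 1)) hQ
      (by simp; ring) (by omega) fun h => absurd h (by norm_num)
    refine sqComm_omega hF hj _ hQ e he he1 (by simp; ring) ?_ P
    rw [hv, (hB h).1]
    omega

theorem sqComm_odd (hF : Odd (Nat.card F)) (m : ℕ) (hm : 2 ≤ m)
    (P : Sylow 2 ↥(Cfsg.Omega F (⇑(qOdd F m)))) : SqComm (P : Subgroup ↥(Cfsg.Omega F (⇑(qOdd F m)))) := by
  have h2 := two_ne_of_odd hF
  have hQ := qOdd_nondeg (F := F) h2 m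
  obtain ⟨e, he, he1⟩ := exists_split_frame (k := m) (r := 1) h2 (qOdd F m) hQ
    (by simp; ring) (by omega) fun h => absurd h one_ne_zero
  refine sqComm_omega hF hm _ hQ e he he1 (by simp; ring) ?_ P
  have hv := val_card_main (F := F) hF (a := m ^ 2) (j := m) one_ne_zero
  rw [mul_one, ← card_oGroup_qOdd h2, padicValNat.one] at hv
  omega

theorem sqComm_minus (hF : Odd (Nat.card F)) (j : ℕ) (hj : 3 ≤ j) (a b : F)
    (hab : ∀ z₁ z₂ : F, z₁ ^ 2 + a * z₁ * z₂ + b * z₂ ^ 2 = 0 → z₁ = 0 ∧ z₂ = 0)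
    (P : Sylow 2 ↥(Cfsg.Omega F (⇑(qMinus F j a b)))) :
    SqComm (P : Subgroup ↥(Cfsg.Omega F (⇑(qMinus F j a b)))) := by
  have h2 := two_ne_of_odd hF
  have hq1 : 1 < Nat.card F := Finite.one_lt_card
  have hQ := qMinus_nondeg hab j
  have hv := val_card_main (F := F) hF (a := (j + 1) * j) (j := j) (Nat.succ_ne_zero (Nat.card F ^ (j + 1)))
  rw [← card_oGroup_qMinus hab] at hv
  obtain ⟨hA, hB⟩ := val_sign_pow hq1 hF (m := j + 1) (by omega)
  rcases pow_mod_four hF (j + 1) with h | h
  · obtain ⟨e, he, he1⟩ := exists_split_frame (k := j) (r := 2) h2 (qMinus F j a b) hQ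
      (by simp; ring) (by omega) fun h => absurd h (by norm_num)
    refine sqComm_omega hF (by omega) _ hQ e he he1 (by simp; ring) ?_ P
    rw [hv, show (Nat.card F ^ (j + 1)).succ = Nat.card F ^ (j + 1) + 1 from rfl, (hA h).1]
    omega
  · obtain ⟨hodd, hns⟩ := not_square_neg_one hF h
    let f : (Fin j ⊕ Fin j) ⊕ Fin 2 → ((Fin j ⊕ Fin j) ⊕ Fin 2 → F) :=
      Sum.elim (fun i => Sum.elim (hypVec F i) 0) ![Sum.elim 0 ![1, 0], Sum.elim 0 ![-a / 2, 1]]
    have hval : ∀ v, qMinus F j a b v = Cfsg.quadFormMinus j F a b v := fun v => congrFun (coe_qMinus (F := F) j a b) v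
    have hc : a = 2 * (a / 2) := by field_simp
    have hc4 : a ^ 2 / 4 = (a / 2) * (a / 2) := by
      rw [div_mul_div_comm, show (4 : F) = 2 * 2 by norm_num, _root_.sq]
    have hd : b - a ^ 2 / 4 ≠ 0 := fun h0 => by
      have := (hab (-(a / 2)) 1 (by linear_combination h0 + hc4 - (a / 2) * hc)).2
      exact one_ne_zero this
    have h4 : (4 : F) ≠ 0 := by
      rw [show (4 : F) = 2 * 2 by norm_num]; exact mul_ne_zero h2 h2
    have hvals : ∀ i, qMinus F j a b (f i) = Sum.elim (hypVal F) ![1, b - a ^ 2 / 4] i := by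
      rintro (i | i)
      · rw [hval, Cfsg.quadFormMinus]
        simp [f, (hyp_sum (F := F) j i i).1]
      · rw [hval, Cfsg.quadFormMinus]
        fin_cases i <;> simp [f] <;> field_simp <;> ring
    have hf : IsFrame (qMinus F j a b) f := by
      refine ⟨fun i l hil => ?_, fun i => ?_⟩
      · rw [polar, hval, hval, hval]
        simp only [Cfsg.quadFormMinus]
        rcases i with i | i <;> rcases l with l | l
        · have h0 := (hyp_sum (F := F) j i l).2 fun h => hil (congrArg Sum.inl h)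
          simp only [f, Sum.elim_inl, Sum.elim_inr, Pi.add_apply, Pi.zero_apply, add_zero, zero_pow two_ne_zero,
            mul_zero, add_mul, mul_add, Finset.sum_add_distrib] at h0 ⊢
          linear_combination h0
        · fin_cases l <;> simp [f]
        · fin_cases i <;> simp [f]
        · fin_cases i <;> fin_cases l <;> simp [f] at hil ⊢ <;> field_simp <;> ring
      · rw [hvals]
        rcases i with (i | i) | i
        · simp [hypVal]
        · simp [hypVal]
        · fin_cases i <;> simp [hd]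
    have hsq : IsSquare (∏ i, qMinus F j a b (f i)) := by
      rw [Finset.prod_congr rfl fun i _ => hvals i, Fintype.prod_sum_type]
      simp only [Sum.elim_inl, Sum.elim_inr, hyp_prod, Fin.prod_univ_two, Matrix.cons_val_zero, Matrix.cons_val_one]
      have hje : Even j := by
        obtain ⟨t, ht⟩ := hodd
        exact ⟨t, by omega⟩
      rw [hje.neg_one_pow, one_mul, one_mul]
      by_contra hns'
      have h1 : IsSquare ((b - a ^ 2 / 4) * (-1)) :=
        (isSquare_mul_nonsquare h2 hd (neg_ne_zero.2 one_ne_zero) hns).2 hns'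
      obtain ⟨t, ht⟩ := h1
      exact one_ne_zero (hab (t - a / 2) 1 (by linear_combination -ht + hc4 + (t - a / 2) * hc)).2
    obtain ⟨e, he, he1⟩ := exists_split_frame (k := j + 1) (r := 0) h2 (qMinus F j a b) hQ
      (by simp; ring) (by omega) fun _ => ⟨_, hf, hsq⟩
    refine sqComm_omega hF (by omega) _ hQ e he he1 (by simp; ring) ?_ P
    have := hB h
    rw [hv, show (Nat.card F ^ (j + 1)).succ = Nat.card F ^ (j + 1) + 1 from rfl, Nat.factorial_succ,
      padicValNat.mul (by omega) j.factorial_ne_zero, add_one_mul]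
    simp only [cVal] at *
    omega

end Cfsg.Agent.OrthSylOdd
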